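import Groth.Agent.L03.VBPn.Lines.Pencil
import Groth.Agent.L22.PDual.Horrocks
import Groth.Agent.L03.VBPn.Jump.Split
import Groth.Agent.L16.ProperFinite
import Groth.Agent.L18.Grass.MapEpi
import Groth.Agent.L03.VBPn.Res.Basic

/-!
# Bundles trivial on the lines through a point
-/

set_option autoImplicit false
set_option linter.style.haveILetI false
set_option linter.unusedSectionVars false
set_option backward.isDefEq.respectTransparency false
set_option backward.isDefEq.respectTransparency.types false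

universe u

open CategoryTheory CategoryTheory.Limits AlgebraicGeometry TopologicalSpace
open Groth.L22.Reg (O' tw')
open Groth.L16
open Groth.L00.Tensor (tensorIso)

noncomputable section

namespace Groth.L03.VBPn.Lines

variable {k : Type u} [Field k] [IsAlgClosed k]

/-- Cohomology of twists of a free module on the line. -/
theorem subsingleton_free_tw {r : ℕ} {M : (CohB1.ProjSpace 1 k).Modules}
    (e : M ≅ FlatMod.freeMod (CohB1.ProjSpace 1 k) r) (t : ℤ) (p : ℕ) (h0 : ¬ (p = 0 ∧ 0 ≤ t))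
    (h1 : ¬ (p = 1 ∧ t ≤ -2)) : Subsingleton (Coh.HH (CohB1.ProjSpace 1 k) (tw' M t) p) := by
  obtain ⟨z⟩ := Groth.L22.Reg.nonempty_O_zero 1 k
  exact Groth.L22.PDual.subsingleton_sigma_mid (fun _ : Fin r => (0 : ℤ)) (e ≪≫ Sigma.mapIso fun _ => z.symm) t
    fun _ => ⟨fun h => h0 ⟨h.1, by omega⟩, fun h => h1 ⟨h.1, by omega⟩⟩

/-- A sum of twists that is free on a line is free. -/
theorem nonempty_free_of_line {n r : ℕ} {E : (CohB1.ProjSpace n k).Modules} {a : Fin r → ℤ}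
    (e : E ≅ ∐ fun l => O' n k (a l)) (i : CohB1.ProjSpace 1 k ⟶ CohB1.ProjSpace n k)
    (h1 : Nonempty ((Scheme.Modules.pullback i).obj (O' n k 1) ≅ O' 1 k 1))
    (hfree : Nonempty ((Scheme.Modules.pullback i).obj E ≅ FlatMod.freeMod (CohB1.ProjSpace 1 k) r)) :
    Nonempty (E ≅ FlatMod.freeMod (CohB1.ProjSpace n k) r) := by
  obtain ⟨f⟩ := hfree
  have q := fun l => nonempty_pullback_twist i h1 (a l)
  let g : (Scheme.Modules.pullback i).obj E ≅ Groth.L21.P1.sumO k a :=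
    (Scheme.Modules.pullback i).mapIso e ≪≫ PreservesCoproduct.iso (Scheme.Modules.pullback i) _ ≪≫
      Sigma.mapIso (fun l => (q l).some) ≪≫ (biproduct.isoCoproduct _).symm
  haveI := Groth.L22.Reg.isProper_over_proj (k := k) (n := 1)
  have hsum : ∀ p, Groth.L21.RR.h k p (FlatMod.freeMod (CohB1.ProjSpace 1 k) r) =
      ∑ l, Groth.L21.RR.h k p (Groth.L21.P1.O k (a l)) := fun p => by
    exact (Groth.L21.RR.h_congr k (g.symm ≪≫ f) p).symm.trans (Groth.L21.P1.h_sumO k a p)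
  obtain ⟨z⟩ := Groth.L22.Reg.nonempty_O_zero 1 k
  let eF : Groth.L21.P1.sumO k (fun _ : Fin r => (0 : ℤ)) ≅ FlatMod.freeMod (CohB1.ProjSpace 1 k) r :=
    biproduct.isoCoproduct _ ≪≫ Sigma.mapIso fun _ => z
  have hF : ∀ p, Groth.L21.RR.h k p (FlatMod.freeMod (CohB1.ProjSpace 1 k) r) =
      ∑ _l : Fin r, Groth.L21.RR.h k p (Groth.L21.P1.O k 0) := fun p => by
    exact (Groth.L21.RR.h_congr k eF p).symm.trans (Groth.L21.P1.h_sumO k (fun _ : Fin r => (0 : ℤ)) p)
  have hH1 := (hsum 1).symm.trans (hF 1)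
  have hH0 := (hsum 0).symm.trans (hF 0)
  simp only [(Groth.L21.P1.h_O k _).2, (Groth.L21.P1.h_O k _).1] at hH1 hH0
  have hge : ∀ l, -1 ≤ a l := fun l => by
    have hle := Finset.single_le_sum (f := fun l => (-a l - 1).toNat) (fun i _ => Nat.zero_le _) (Finset.mem_univ l)
    simp only [hH1] at hle
    simp at hle
    omega
  -- the first twist down
  obtain ⟨w⟩ := nonempty_pullback_tw i h1 E (-1)
  have hzero : Subsingleton (Coh.HH (CohB1.ProjSpace 1 k) (tw' ((Scheme.Modules.pullback i).obj E) (-1)) 0) :=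
    subsingleton_free_tw f (-1) 0 (by omega) (by omega)
  have hle : ∀ l, a l ≤ 0 := fun l => by
    by_contra hl
    obtain ⟨σ, hσ⟩ := Groth.L03.VBPn.Res.nonempty_h0_nonneg (k := k) (n := 1) (show (0 : ℤ) ≤ a l + -1 by omega)
    obtain ⟨u⟩ := Groth.L22.Reg.nonempty_O_add (n := 1) (R := k) (show a l + -1 = a l + -1 from rfl)
    let T := Groth.L00.Tensor.tensorRightF (O' 1 k (-1))
    let m : O' 1 k (a l) ⟶ (Scheme.Modules.pullback i).obj E := biproduct.ι (fun l => Groth.L21.P1.O k (a l)) l ≫ g.inv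
    let p : (Scheme.Modules.pullback i).obj E ⟶ O' 1 k (a l) := g.hom ≫ biproduct.π (fun l => Groth.L21.P1.O k (a l)) l
    have hmp : m ≫ p = 𝟙 _ := by
      show (biproduct.ι (fun l => Groth.L21.P1.O k (a l)) l ≫ g.inv) ≫ g.hom ≫
        biproduct.π (fun l => Groth.L21.P1.O k (a l)) l = _
      simp
      rfl
    haveI := Groth.L22.PDual.subsingleton_of_retract (T.map m) (T.map p)
      (by rw [← Functor.map_comp, hmp, CategoryTheory.Functor.map_id]) 0 hzero
    haveI := Groth.L22.Reg.subsingleton_iso u 0 this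
    exact hσ (Groth.L21.RR.hom_ext_one ((Groth.L21.RR.e0 _).symm.injective (Subsingleton.elim _ _)))
  -- no degree minus one
  have hcount : ∀ l, a l = 0 := by
    have h2 : ∀ l ∈ Finset.univ, (a l + 1).toNat = 1 := by
      have hle' : ∀ l ∈ (Finset.univ : Finset (Fin r)), (a l + 1).toNat ≤ 1 := fun l _ => by have := hle l; omega
      exact (Finset.sum_eq_sum_iff_of_le hle').1 (by simpa using hH0)
    exact fun l => by have := h2 l (Finset.mem_univ l); have := hge l; omega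
  obtain ⟨z'⟩ := Groth.L22.Reg.nonempty_O_zero n k
  exact ⟨e ≪≫ Sigma.mapIso fun l => eqToIso (congrArg (O' n k) (hcount l)) ≪≫ z'⟩

/-- On the plane. -/
theorem nonempty_free_plane {r : ℕ} {E : (CohB1.ProjSpace 2 k).Modules} (hE : FlatMod.IsFinLocFreeOfRank r E)
    (x : CohB1.ProjSpace 2 k) (hx : IsClosed ({x} : Set (CohB1.ProjSpace 2 k)))
    (h : ∀ (i : CohB1.ProjSpace 1 k ⟶ CohB1.ProjSpace 2 k) [IsClosedImmersion i],
      i ≫ CohB1.ProjSpace.toSpec 2 k = CohB1.ProjSpace.toSpec 1 k →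
      Nonempty ((Scheme.Modules.pullback i).obj (O' 2 k 1) ≅ O' 1 k 1) →
      x ∈ Set.range i.base →
      Nonempty ((Scheme.Modules.pullback i).obj E ≅ FlatMod.freeMod (CohB1.ProjSpace 1 k) r)) :
    Nonempty (E ≅ FlatMod.freeMod (CohB1.ProjSpace 2 k) r) := by
  haveI := Groth.L22.PDual.proper 2 k
  haveI := Groth.L21.RR.isNoetherian_of_proper (X := CohB1.ProjSpace 2 k) k
  have hEf := Groth.L22.CurveDeg.isFinLocFree_of_rank hE
  have hcoh := Groth.L16.NegPow.isCoh_of_isFinLocFree hEf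
  letI : (CohB1.ProjSpace 2 k).Over (Spec (CommRingCat.of k)) := ⟨CohB1.ProjSpace.toSpec 2 k⟩
  obtain ⟨V, _, _, r', _, hV, hr'⟩ := exists_eval k (n := 2) x hx
  obtain ⟨e⟩ := ProjSpace.nonempty_H0_twist_linearEquiv 2 k 1
  haveI := (Groth.L03.PlanePoints.finrank_homogeneous (F := k) 2 1).1
  haveI : Module.Finite k (Coh.HH (CohB1.ProjSpace 2 k) (O' 2 k 1) 0) := Module.Finite.equiv e.symm
  have h3 : Module.finrank k (Coh.HH (CohB1.ProjSpace 2 k) (O' 2 k 1) 0) = 3 := by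
    refine e.finrank_eq.trans ?_
    rw [(Groth.L03.PlanePoints.finrank_homogeneous (F := k) 2 1).2]; rfl
  have hW : 2 ≤ Module.finrank k (LinearMap.ker r') := by
    have := LinearMap.finrank_range_add_finrank_ker r'
    have := Submodule.finrank_le (LinearMap.range r')
    omega
  let σ : Coh.HH (CohB1.ProjSpace 2 k) (O' 2 k 1) 0 →
      (Coh.structureModule (CohB1.ProjSpace 2 k) ⟶ O' 2 k 1) :=
    fun z => Groth.L16.homOfSection _ (Groth.L21.RR.e0 _ z)
  let one₀ : Coh.HH (CohB1.ProjSpace 2 k) (Coh.structureModule (CohB1.ProjSpace 2 k)) 0 :=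
    (Groth.L21.RR.e0 _).symm (Groth.L21.RR.oneSec _)
  have hσ : ∀ z, CohLinear.hmap (σ z) 0 one₀ = z := fun z => by
    refine (Groth.L21.RR.e0 _).injective ?_
    rw [Groth.L21.RR.e0_hmap, AddEquiv.apply_symm_apply]
    exact Groth.L18.GenLoc.secOf_homOfSection _
  have hσ' : ∀ f : Coh.structureModule (CohB1.ProjSpace 2 k) ⟶ O' 2 k 1, σ (CohLinear.hmap f 0 one₀) = f := fun f => by
    show Groth.L16.homOfSection _ (Groth.L21.RR.e0 _ _) = f
    rw [Groth.L21.RR.e0_hmap, AddEquiv.apply_symm_apply]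
    exact Groth.L18.GenLoc.homOfSection_secOf f
  -- every combination of the pencil
  have key : ∀ z ∈ LinearMap.ker r', z ≠ 0 →
      ∀ t : ℤ, (t + 1 ≤ -1 → Function.Injective (CohLinear.hmap (ψ (tw' E t) (σ z)) 1)) ∧
        (-1 ≤ t + 1 → Function.Surjective (CohLinear.hmap (ψ (tw' E t) (σ z)) 1)) := by
    intro z hz hz0 t
    have hs0 : σ z ≠ 0 := fun hh => hz0 <| by
      rw [← hσ z, hh]
      exact Groth.L21.RR.hmap_zero _ _ 0 one₀
    obtain ⟨j, hjc, hjs, hp, hker, hrange⟩ := exists_hyperplane (σ z) hs0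
    haveI := hjc
    obtain ⟨f⟩ := h j hjs hp (hrange ▸ hr' z (LinearMap.mem_ker.1 hz))
    obtain ⟨hi, hsj⟩ := exists_mult_seq hEf t (σ z) hs0 j hjs hp hker
    exact ⟨fun ht => hi (subsingleton_free_tw f (t + 1) 0 (by omega) (by omega)),
      fun ht => hsj (subsingleton_free_tw f (t + 1) 1 (by omega) (by omega))⟩
  haveI : Nontrivial (LinearMap.ker r') := Module.nontrivial_of_finrank_pos (R := k) (by omega)
  obtain ⟨⟨z₁, hz₁⟩, hne⟩ := exists_ne (0 : LinearMap.ker r')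
  obtain ⟨⟨z₂, hz₂⟩, hind⟩ : ∃ w : LinearMap.ker r', ∀ c : k, (w : Coh.HH (CohB1.ProjSpace 2 k) (O' 2 k 1) 0) ≠ c • z₁ := by
    by_contra hc
    push Not at hc
    have := finrank_le_one (⟨z₁, hz₁⟩ : LinearMap.ker r') fun w => by
      obtain ⟨c, hc⟩ := hc w
      exact ⟨c, Subtype.ext hc.symm⟩
    omega
  have hz₁0 : z₁ ≠ 0 := fun hh => hne (Subtype.ext hh)
  have hFcoh := Groth.L22.PDual.isCoh_tw hcoh (-2 : ℤ)
  haveI : Module.Finite k (Coh.HH (CohB1.ProjSpace 2 k) (tw' E (-2)) 1) := Groth.L16.ProperFinite.finite_HH k hFcoh 1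
  have hV2 : Subsingleton (Coh.HH (CohB1.ProjSpace 2 k) (tw' E (-2)) 1) := by
    refine subsingleton_of_pencil (Groth.L21.RR.hk k (ψ (tw' E (-2)) (σ z₁)) 1)
      (Groth.L21.RR.hk k (ψ (tw' E (-2)) (σ z₂)) 1)
      ⟨(key z₁ hz₁ hz₁0 (-2)).1 (by omega), (key z₁ hz₁ hz₁0 (-2)).2 (by omega)⟩ fun c => ?_
    let z := CohLinear.hmap (σ z₂ + (-c) • σ z₁) 0 one₀
    have hz : z = z₂ - c • z₁ := by
      show CohLinear.hmap _ 0 _ = _
      rw [Groth.L21.RR.hmap_add, hσ, KLin.smul_def, CohLinear.hmap_comp]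
      have h4 : Groth.L21.RR.hk k (σ z₁) 0 ((-c) • one₀) = (-c) • z₁ := by rw [map_smul]; exact congrArg _ (hσ z₁)
      exact (congrArg (z₂ + ·) h4).trans (by rw [neg_smul, ← sub_eq_add_neg])
    have hmem : z ∈ LinearMap.ker r' := hz ▸ Submodule.sub_mem _ hz₂ (Submodule.smul_mem _ c hz₁)
    have hinj := (key z hmem (hz ▸ sub_ne_zero.2 (hind c)) (-2)).1 (by omega)
    have h5 : Groth.L21.RR.hk k (ψ (tw' E (-2)) (σ z₂)) 1 - c • Groth.L21.RR.hk k (ψ (tw' E (-2)) (σ z₁)) 1 =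
        Groth.L21.RR.hk k (ψ (tw' E (-2)) (σ z)) 1 := by
      rw [show σ z = σ z₂ + (-c) • σ z₁ from hσ' _, hk_ψ_add, hk_ψ_smul, neg_smul, ← sub_eq_add_neg]
    rw [h5]
    exact hinj
  obtain ⟨u⟩ := Groth.L22.Reg.nonempty_tw_tw E (show (-2 : ℤ) + 1 = -1 by omega)
  have hV1 : Subsingleton (Coh.HH (CohB1.ProjSpace 2 k) (tw' E (-1)) 1) := by
    haveI : Subsingleton (Coh.HH (CohB1.ProjSpace 2 k) (tw' E (-2)) 1) := hV2
    have hs := (key z₁ hz₁ hz₁0 (-2)).2 (by omega)
    exact Groth.L22.Reg.subsingleton_iso (Groth.L00.Tensor.tensorComm _ _ ≪≫ u) 1 hs.subsingleton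
  -- all twists
  obtain ⟨i, x', hic, hi, hi1, hix, -⟩ := exists_subspace (k := k) le_rfl 2 (by omega) x hx
  haveI := hic
  have hline := h i hi hi1 ⟨x', hix⟩
  obtain ⟨f⟩ := hline
  obtain ⟨j, i', s, hjc, -, hj, -, hij, hj1, -, hs, hker⟩ := exists_hyperplane_through (k := k) (n := 1) le_rfl i hi hi1
  haveI := hjc
  have hxj : x ∈ Set.range j.base := ⟨i'.base x', by rw [← TopCat.comp_app, ← Scheme.Hom.comp_base, hij, hix]⟩
  obtain ⟨fj⟩ := h j hj hj1 hxj
  have hall : ∀ t : ℤ, Subsingleton (Coh.HH (CohB1.ProjSpace 2 k) (tw' E t) 1) := by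
    intro t
    rcases le_total (-1) t with ht | ht
    · induction t, ht using Int.le_induction with
      | base => exact hV1
      | succ t ht ih =>
        exact subsingleton_up j hj hj1 hs hker hEf (by simpa using ih) (subsingleton_free_tw fj (t + 1) 1 (by omega) (by omega))
    · induction t, ht using Int.le_induction_down with
      | base => exact hV1
      | pred t ht ih => exact subsingleton_down j hj hj1 hs hker hEf ih (subsingleton_free_tw fj t 0 (by omega) (by omega))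
  obtain ⟨r₂, a, ⟨ea⟩, hlen⟩ := Groth.L22.PDual.split hcoh (Or.inr (Groth.L22.PDual.exists_low_locFree (by omega) hEf))
    fun t q h1 h2 => by
      obtain rfl : q = 1 := by omega
      exact hall t
  obtain rfl : r₂ = r := by exact_mod_cast hlen.symm.trans (Groth.L22.PDual.len_eq_of_rank hE)
  exact nonempty_free_of_line ea i hi1 ⟨f⟩

/-- Bundles trivial on all lines through a point are trivial. -/
theorem nonempty_free {n r : ℕ} (hn : 2 ≤ n) {E : (CohB1.ProjSpace n k).Modules} (hE : FlatMod.IsFinLocFreeOfRank r E)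
    (x : CohB1.ProjSpace n k) (hx : IsClosed ({x} : Set (CohB1.ProjSpace n k)))
    (h : ∀ (i : CohB1.ProjSpace 1 k ⟶ CohB1.ProjSpace n k) [IsClosedImmersion i],
      i ≫ CohB1.ProjSpace.toSpec n k = CohB1.ProjSpace.toSpec 1 k →
      Nonempty ((Scheme.Modules.pullback i).obj (O' n k 1) ≅ O' 1 k 1) →
      x ∈ Set.range i.base →
      Nonempty ((Scheme.Modules.pullback i).obj E ≅ FlatMod.freeMod (CohB1.ProjSpace 1 k) r)) :
    Nonempty (E ≅ FlatMod.freeMod (CohB1.ProjSpace n k) r) := by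
  have hEf := Groth.L22.CurveDeg.isFinLocFree_of_rank hE
  obtain ⟨P, x', hPc, hP, hP1, hPx, hx'⟩ := exists_subspace (k := k) (show 1 ≤ 2 by omega) n hn x hx
  haveI := hPc
  have hEP : FlatMod.IsFinLocFreeOfRank r ((Scheme.Modules.pullback P).obj E) :=
    Groth.L18.MapEpi.isFinLocFreeOfRank_pullback P hE
  obtain ⟨e⟩ := nonempty_free_plane hEP x' hx' fun i _ hi hi1 hxi => by
    obtain ⟨q⟩ := hP1
    obtain ⟨q'⟩ := hi1
    obtain ⟨f⟩ := h (i ≫ P) (by rw [Category.assoc, hP, hi])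
      ⟨((Scheme.Modules.pullbackComp i P).app _).symm ≪≫ (Scheme.Modules.pullback i).mapIso q ≪≫ q'⟩
      (by
        obtain ⟨y, hy⟩ := hxi
        exact ⟨y, by rw [Scheme.Hom.comp_base, TopCat.comp_app, hy, hPx]⟩)
    exact ⟨(Scheme.Modules.pullbackComp i P).app E ≪≫ f⟩
  have hmid := Groth.L03.VBPn.subsingleton_mid_of_plane n P hP hP1 E hEf fun t =>
    Groth.L22.PDual.subsingleton_sigma_mid (n := 2) (fun _ : Fin r => (0 : ℤ))
      (e ≪≫ Sigma.mapIso fun _ => (Groth.L22.Reg.nonempty_O_zero 2 k).some.symm) t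
      fun _ => ⟨fun h => by omega, fun h => by omega⟩
  obtain ⟨r', a, ⟨ea⟩, hlen⟩ := Groth.L22.PDual.split (Groth.L16.NegPow.isCoh_of_isFinLocFree hEf)
    (Or.inr (Groth.L22.PDual.exists_low_locFree (by omega) hEf)) fun t q h1 h2 => hmid t q h1 h2
  obtain rfl : r' = r := by exact_mod_cast hlen.symm.trans (Groth.L22.PDual.len_eq_of_rank hE)
  obtain ⟨i, x'', hic, hi, hi1, hix, -⟩ := exists_subspace (k := k) le_rfl n (by omega) x hx
  haveI := hic
  exact nonempty_free_of_line ea i hi1 (h i hi hi1 ⟨x'', hix⟩)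

end Groth.L03.VBPn.Lines
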