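import Groth.Agent.L03.VBPn.Lines.Subspace
import Groth.Agent.L03.VBPn.Line
import Groth.Agent.L03.VBPn.CotEnd
import Groth.Agent.L29.Twist.QuotMul
import Groth.Agent.L22.Reg.Lin
import Groth.Agent.L21.Weil.Slope
import Mathlib.LinearAlgebra.Eigenspace.Triangularizable

/-!
# Vanishing from a pencil of lines
-/

set_option autoImplicit false
set_option linter.style.haveILetI false
set_option linter.unusedSectionVars false
set_option backward.isDefEq.respectTransparency false
set_option backward.isDefEq.respectTransparency.types false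

universe u

open CategoryTheory CategoryTheory.Limits AlgebraicGeometry TopologicalSpace
open Groth.L22.Reg (O' tw')
open Groth.L18.GenLoc (secOf)
open Groth.L16
open Groth.L16.CohLinear (hmap hmap_comp exact_hmap_hmap exact_delta_hmap overLin)
open Groth.L00.Tensor (tensorIso tensorComm tensorAssoc tensorUnitLeft tensorUnitRight tensorRightF tensorLeftF)

noncomputable section

namespace Groth.L03.VBPn.Lines

/-- Two maps with every combination injective, the first bijective, have trivial source. -/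
theorem subsingleton_of_pencil {k : Type u} [Field k] [IsAlgClosed k] {V W : Type u} [AddCommGroup V] [Module k V]
    [AddCommGroup W] [Module k W] [Module.Finite k V] (A B : V →ₗ[k] W) (hA : Function.Bijective A)
    (h : ∀ c : k, Function.Injective (B - c • A)) : Subsingleton V := by
  by_contra hV
  haveI := not_subsingleton_iff_nontrivial.1 hV
  let T : V →ₗ[k] V := (LinearEquiv.ofBijective A hA).symm.toLinearMap ∘ₗ B
  obtain ⟨c, hc⟩ := Module.End.exists_eigenvalue (T : Module.End k V)
  obtain ⟨v, hv⟩ := hc.exists_hasEigenvector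
  refine hv.2 (h c ?_)
  have h1 : A (T v) = B v := (LinearEquiv.ofBijective A hA).apply_symm_apply (B v)
  rw [map_zero, LinearMap.sub_apply, LinearMap.smul_apply, ← h1, hv.apply_eq_smul, map_smul, sub_self]

variable {k : Type u} [Field k] [IsAlgClosed k] {n : ℕ}

section Psi

variable (F : (CohB1.ProjSpace (n + 1) k).Modules)

/-- Multiplication by a linear form. -/
def ψ (s : Coh.structureModule (CohB1.ProjSpace (n + 1) k) ⟶ O' (n + 1) k 1) :
    F ⟶ (tensorRightF F).obj (O' (n + 1) k 1) :=
  (tensorUnitLeft F).inv ≫ (tensorRightF F).map s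

theorem hk_ψ_add (s t : Coh.structureModule (CohB1.ProjSpace (n + 1) k) ⟶ O' (n + 1) k 1) (q : ℕ) :
    Groth.L21.RR.hk k (ψ F (s + t)) q = Groth.L21.RR.hk k (ψ F s) q + Groth.L21.RR.hk k (ψ F t) q := by
  refine LinearMap.ext fun x => ?_
  haveI := (Groth.L00.Tensor.preservesColimits_tensorRightF F)
  haveI : (tensorRightF F).Additive := inferInstance
  show hmap (ψ F (s + t)) q x = hmap (ψ F s) q x + hmap (ψ F t) q x
  rw [ψ, Functor.map_add, Preadditive.comp_add]
  exact Groth.L21.RR.hmap_add _ _ q x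

theorem hk_ψ_smul (c : k) (s : Coh.structureModule (CohB1.ProjSpace (n + 1) k) ⟶ O' (n + 1) k 1) (q : ℕ) :
    Groth.L21.RR.hk k (ψ F (c • s)) q = c • Groth.L21.RR.hk k (ψ F s) q := by
  refine LinearMap.ext fun x => ?_
  have h : ψ F (c • s) = c • ψ F s := by
    rw [ψ, ψ, ← Category.comp_id s, ← Linear.comp_smul, Functor.map_comp, Functor.map_comp,
      Groth.L03.VBPn.tensorRightF_map_smul, Linear.comp_smul, CategoryTheory.Functor.map_id, Linear.comp_smul]
  show hmap (ψ F (c • s)) q x = c • hmap (ψ F s) q x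
  rw [h, KLin.smul_def, hmap_comp]
  exact map_smul (overLin k (hmap (ψ F s) q)) c x

end Psi

/-- The sequence of a linear form. -/
theorem exists_mult_seq {E : (CohB1.ProjSpace (n + 1) k).Modules} (hE : FlatMod.IsFinLocFree E) (t : ℤ)
    (s : Coh.structureModule (CohB1.ProjSpace (n + 1) k) ⟶ O' (n + 1) k 1) (hs : s ≠ 0)
    (j : CohB1.ProjSpace n k ⟶ CohB1.ProjSpace (n + 1) k) [IsClosedImmersion j]
    (hj : j ≫ CohB1.ProjSpace.toSpec (n + 1) k = CohB1.ProjSpace.toSpec n k)
    (h1 : Nonempty ((Scheme.Modules.pullback j).obj (O' (n + 1) k 1) ≅ O' n k 1))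
    (hker : j.ker = PicF2.zeroScheme _ s) :
    (Subsingleton (Coh.HH (CohB1.ProjSpace n k) (tw' ((Scheme.Modules.pullback j).obj E) (t + 1)) 0) →
      Function.Injective (hmap (ψ (tw' E t) s) 1)) ∧
    (Subsingleton (Coh.HH (CohB1.ProjSpace n k) (tw' ((Scheme.Modules.pullback j).obj E) (t + 1)) 1) →
      Function.Surjective (hmap (ψ (tw' E t) s) 1)) := by
  let P := CohB1.ProjSpace (n + 1) k
  let F := tw' E t
  let L := O' (n + 1) k 1
  haveI := Groth.L22.PDual.proper (n + 1) k
  haveI := Groth.L21.RR.isNoetherian_of_proper (X := P) k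
  haveI : IsIntegral P := ProjSpace.isIntegral (n + 1) k
  have hL : PicF.IsInvertible L := ProjTwist.isInvertible_twistProjSpace _ k _
  have hFf : FlatMod.IsFinLocFree F := Groth.L29.DC.isFinLocFree_tensor hE
    (Groth.L20.ResDescent.isFinLocFree_of_isInvertible (ProjTwist.isInvertible_twistProjSpace _ k _))
  have hEt : FlatMod.IsFinLocFree (tw' E (t + 1)) := Groth.L29.DC.isFinLocFree_tensor hE
    (Groth.L20.ResDescent.isFinLocFree_of_isInvertible (ProjTwist.isInvertible_twistProjSpace _ k _))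
  haveI : Mono s :=
    Groth.L22.PDual.mono_of_ne_zero (Groth.L18.Ample.isInvertible_structureModule _) hL hs
  let S₀ := ShortComplex.mk s (cokernel.π s) (cokernel.condition s)
  have hS₀ : S₀.ShortExact := { exact := ShortComplex.exact_cokernel s }
  have hS := Groth.L16.FrameIso.shortExact_tensor_left (Groth.L29.DC.isFlat_of_isFinLocFree hFf) _ hS₀
  obtain ⟨ec⟩ := Groth.L29.Twist.nonempty_cokernel_section hL s
  obtain ⟨ep⟩ : Nonempty ((Scheme.Modules.pushforward j).obj (Coh.structureModule (CohB1.ProjSpace n k)) ≅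
      ClSub.quotMod (PicF2.zeroScheme L s)) := by
    rw [← hker]
    obtain ⟨u⟩ := Groth.L03.BlowPt.nonempty_push_structure j.toImage
    exact ⟨(Scheme.Modules.pushforwardCongr (Scheme.Hom.toImage_imageι j).symm).app _ ≪≫
      ((Scheme.Modules.pushforwardComp j.toImage j.ker.subschemeι).app _).symm ≪≫
      (Scheme.Modules.pushforward j.ker.subschemeι).mapIso u⟩
  haveI : Coh.IsQCoh (Coh.structureModule (CohB1.ProjSpace n k)) :=
    Groth.L21.Extend.isQCoh_of_isInvertible (Groth.L18.Ample.isInvertible_structureModule _)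
  haveI : Coh.IsQCoh ((Scheme.Modules.pullback j).obj (tw' E (t + 1))) :=
    Groth.L29.DC.PCQCoh.isQCoh_of_isFinLocFree (Groth.L20.DescLocus.isFinLocFree_pullback j hEt)
  haveI := Groth.L17.ProjFormula.isIso_θ j (tw' E (t + 1)) (Coh.structureModule (CohB1.ProjSpace n k)) hEt
  obtain ⟨eP⟩ := nonempty_pullback_tw j h1 E (t + 1)
  obtain ⟨e2⟩ := Groth.L22.Reg.nonempty_tw_tw E (show t + 1 = t + 1 from rfl)
  let e3 : CohB1.tensorMod F (cokernel s) ≅
      (Scheme.Modules.pushforward j).obj (tw' ((Scheme.Modules.pullback j).obj E) (t + 1)) :=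
    tensorIso (Iso.refl _) ec ≪≫ (tensorAssoc _ _ _).symm ≪≫ tensorIso e2 ep.symm ≪≫
      asIso (Groth.L17.ClosedPush.θ j (Coh.structureModule (CohB1.ProjSpace n k)) (tw' E (t + 1))) ≪≫
      (Scheme.Modules.pushforward j).mapIso (tensorUnitRight _ ≪≫ eP)
  have h3 : ∀ p, Subsingleton (Coh.HH (CohB1.ProjSpace n k) (tw' ((Scheme.Modules.pullback j).obj E) (t + 1)) p) →
      Subsingleton (Coh.HH P (CohB1.tensorMod F (cokernel s)) p) := fun p hp => by
    refine (Groth.L22.Reg.subsingleton_congr_iso e3 p).2 ?_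
    obtain ⟨g⟩ := Groth.L14.LocHilbLift.nonempty_HH_pushEquiv (k := k) j hj
      (tw' ((Scheme.Modules.pullback j).obj E) (t + 1)) p
    exact g.toEquiv.subsingleton_congr.2 hp
  let T := (ShortComplex.mk ((tensorRightF F).map s) ((tensorRightF F).map (cokernel.π s))
    (by rw [← Functor.map_comp, cokernel.condition, Functor.map_zero]))
  have hT : T.ShortExact :=
    ShortComplex.shortExact_of_iso (S₀.mapNatIso (Groth.L00.Tensor.tensorFlipIso F).symm) hS
  have h3' : ∀ p, Subsingleton (Coh.HH (CohB1.ProjSpace n k) (tw' ((Scheme.Modules.pullback j).obj E) (t + 1)) p) →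
      Subsingleton (Coh.HH P T.X₃ p) := fun p hp =>
    Groth.L22.Reg.subsingleton_iso (Groth.L00.Tensor.tensorComm _ _) p (h3 p hp)
  let a := (tensorUnitLeft F).inv
  have hb : Function.Bijective (hmap a 1) :=
    ⟨fun x y hxy => by
      have h := congrArg (hmap (tensorUnitLeft F).hom 1) hxy
      rwa [← hmap_comp, ← hmap_comp, Iso.inv_hom_id, Groth.L16.CohLinear.hmap_id,
        Groth.L16.CohLinear.hmap_id] at h,
     fun y => ⟨hmap (tensorUnitLeft F).hom 1 y, by
      rw [← hmap_comp, Iso.hom_inv_id, Groth.L16.CohLinear.hmap_id]⟩⟩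
  have hψ : ⇑(hmap (ψ F s) 1) = hmap T.f 1 ∘ hmap a 1 := funext fun x => hmap_comp a T.f 1 x
  refine ⟨fun hp => ?_, fun hp => ?_⟩
  · haveI := h3' 0 hp
    rw [hψ]
    refine Function.Injective.comp ((injective_iff_map_eq_zero _).2 fun x hx => ?_) hb.1
    obtain ⟨y, rfl⟩ := ((exact_delta_hmap hT 0) x).1 hx
    rw [Subsingleton.elim y 0, map_zero]
  · haveI := h3' 1 hp
    rw [hψ]
    exact Function.Surjective.comp (fun x => ((exact_hmap_hmap hT 1) x).1 (Subsingleton.elim _ _)) hb.2

end Groth.L03.VBPn.Lines
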