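import Groth.Agent.L03.VBPn.Hyper
import Groth.Agent.L03.VBPn.Restrict
import Groth.Agent.L03.PlaneProj.Lines

/-!
# Hyperplanes and linear subspaces through a point
-/

set_option autoImplicit false
set_option linter.style.haveILetI false
set_option linter.unusedSectionVars false
set_option backward.isDefEq.respectTransparency false
set_option backward.isDefEq.respectTransparency.types false

universe u

open CategoryTheory CategoryTheory.Limits AlgebraicGeometry TopologicalSpace
open Groth.L18.Frame (rs pull IsFrame)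
open Groth.L18.GenLoc (secOf)
open Groth.L22.Reg (O')
open Groth.L03.BlowPt (ptI)
open Groth.L16

noncomputable section

namespace Groth.L03.VBPn.Lines

variable {k : Type u} [Field k] [IsAlgClosed k]

/-- The evaluation of linear forms at a closed point has image of dimension at most one. -/
theorem exists_eval (k : Type u) [Field k] [IsAlgClosed k] {n : ℕ} (x : (CohB1.ProjSpace n k)) (hx : IsClosed ({x} : Set (CohB1.ProjSpace n k))) :
    letI : (CohB1.ProjSpace n k).Over (Spec (CommRingCat.of k)) := ⟨CohB1.ProjSpace.toSpec n k⟩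
    ∃ (V : Type u) (_ : AddCommGroup V) (_ : Module k V) (r : Coh.HH (CohB1.ProjSpace n k) (O' n k 1) 0 →ₗ[k] V),
      Module.Finite k V ∧ Module.finrank k V ≤ 1 ∧
      ∀ z, r z = 0 → x ∉ CohB1.genLocus (O' n k 1) (Groth.L16.homOfSection (O' n k 1) (Groth.L21.RR.e0 (O' n k 1) z)) := by
  letI : (CohB1.ProjSpace n k).Over (Spec (CommRingCat.of k)) := ⟨CohB1.ProjSpace.toSpec n k⟩
  haveI : IsProper ((CohB1.ProjSpace n k) ↘ Spec (CommRingCat.of k)) := Groth.L16.ProjSpace.isProper_toSpec n k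
  haveI := Groth.L21.RR.isNoetherian_of_proper (X := (CohB1.ProjSpace n k)) k
  let i := (ptI hx).subschemeι
  letI : (ptI hx).subscheme.Over (Spec (CommRingCat.of k)) := ⟨(ptI hx).subschemeι ≫ ((CohB1.ProjSpace n k) ↘ Spec (CommRingCat.of k))⟩
  haveI : IsProper ((ptI hx).subscheme ↘ Spec (CommRingCat.of k)) :=
    inferInstanceAs (IsProper (i ≫ ((CohB1.ProjSpace n k) ↘ Spec (CommRingCat.of k))))
  haveI := Groth.L21.RR.isNoetherian_of_proper (X := (ptI hx).subscheme) k
  have hmem : ∀ z : (ptI hx).subscheme, i z = x := fun z => by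
    have h : i z ∈ ((ptI hx).support : Set (CohB1.ProjSpace n k)) := by
      rw [← Scheme.IdealSheafData.range_subschemeι]; exact Set.mem_range_self z
    simpa [ptI] using h
  haveI : Subsingleton (ptI hx).subscheme :=
    ⟨fun a c => i.isClosedEmbedding.injective ((hmem a).trans (hmem c).symm)⟩
  haveI hne : Nonempty (ptI hx).subscheme := by
    obtain ⟨z, -⟩ : x ∈ Set.range i := by
      rw [Scheme.IdealSheafData.range_subschemeι]; simp [ptI]
    exact ⟨z⟩
  have hL : PicF.IsInvertible (O' n k 1) := Groth.L16.ProjTwist.isInvertible_twistProjSpace n k 1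
  obtain ⟨g⟩ := Groth.L14.LocHilbLift.nonempty_HH_pushEquiv (k := k) i rfl ((Scheme.Modules.pullback i).obj (O' n k 1)) 0
  obtain ⟨e⟩ := Groth.L03.BlowPt.nonempty_iso_of_subsingleton (Groth.L18.Ample.isInvertible_pullback i hL)
  let η := (Scheme.Modules.pullbackPushforwardAdjunction i).unit.app (O' n k 1)
  have h1 : Module.finrank k (Coh.HH (ptI hx).subscheme (Coh.structureModule (ptI hx).subscheme) 0) = 1 := by
    have h := Groth.L03.BlowPt.ptDeg_eq_one (k := k) (hx := hx)
    rw [Groth.L03.BlowPt.ptDeg, Groth.L03.SurfAdj.euler_subscheme k (ptI hx)] at h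
    rw [Groth.L03.Euler.euler_eq_sum (k := k) (N := 1) fun q hq => Groth.L22.Inter.subsingleton_HH_of_dim
      (topologicalKrullDim_zero_of_discreteTopology _ |>.trans_eq Nat.cast_zero.symm) _ hq, Finset.sum_range_one] at h
    simpa using h
  haveI := Groth.L21.RR.finite_HH' k (X := (ptI hx).subscheme) Groth.L16.CohClosedPush.isCoh_structure 0
  refine ⟨_, inferInstance, inferInstance,
    ((g.trans (Groth.L03.SurfAdj.hhEquiv k e 0)).toLinearMap ∘ₗ Groth.L21.RR.hk k η 0), inferInstance, h1.le,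
    fun z hz hmemz => ?_⟩
  have hz0 : Groth.L21.RR.hk k η 0 z = 0 := (g.trans (Groth.L03.SurfAdj.hhEquiv k e 0)).map_eq_zero_iff.1 hz
  set s := Groth.L16.homOfSection (O' n k 1) (Groth.L21.RR.e0 (O' n k 1) z) with hs
  have hpull : pull i (O' n k 1) ⊤ (secOf s) = 0 := by
    rw [hs, Groth.L18.GenLoc.secOf_homOfSection]
    exact (Groth.L21.RR.e0_hmap η z).symm.trans ((congrArg (Groth.L21.RR.e0 _) hz0).trans (map_zero _))
  have hfr := (Groth.L18.GenLoc.isFrame_genLocus s).pullback i (O' n k 1)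
  have hzero : pull i (O' n k 1) (CohB1.genLocus (O' n k 1) s) (rs (O' n k 1) le_top (secOf s)) = 0 := by
    refine (Groth.L18.Frame.pull_rs i (O' n k 1) (le_top : CohB1.genLocus (O' n k 1) s ≤ ⊤) (secOf s)).symm.trans ?_
    exact (congrArg (rs ((Scheme.Modules.pullback i).obj (O' n k 1)) _) hpull).trans (map_zero _)
  rw [hzero] at hfr
  have hsub : Subsingleton Γ((ptI hx).subscheme, i ⁻¹ᵁ CohB1.genLocus (O' n k 1) s) :=
    subsingleton_of_zero_eq_one (hfr.inj le_rfl (by simp))
  obtain ⟨w⟩ := hne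
  have hw : w ∈ i ⁻¹ᵁ CohB1.genLocus (O' n k 1) s := show i w ∈ _ from (hmem w).symm ▸ hmemz
  haveI : Nonempty (i ⁻¹ᵁ CohB1.genLocus (O' n k 1) s : (ptI hx).subscheme.Opens) := ⟨⟨w, hw⟩⟩
  exact not_nontrivial_iff_subsingleton.2 hsub inferInstance

/-- The hyperplane of a linear form. -/
theorem exists_hyperplane {n : ℕ} (s : Coh.structureModule (CohB1.ProjSpace (n + 1) k) ⟶ O' (n + 1) k 1)
    (hs0 : s ≠ 0) :
    ∃ (j : CohB1.ProjSpace n k ⟶ CohB1.ProjSpace (n + 1) k),
      IsClosedImmersion j ∧ j ≫ CohB1.ProjSpace.toSpec (n + 1) k = CohB1.ProjSpace.toSpec n k ∧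
        Nonempty ((Scheme.Modules.pullback j).obj (O' (n + 1) k 1) ≅ O' n k 1) ∧
        j.ker = PicF2.zeroScheme _ s ∧ Set.range j.base = (CohB1.genLocus (O' (n + 1) k 1) s : Set _)ᶜ := by
  classical
  let P := CohB1.ProjSpace (n + 1) k
  let L := O' (n + 1) k 1
  have hL : PicF.IsInvertible L := ProjTwist.isInvertible_twistProjSpace _ k _
  -- the hyperplane
  obtain ⟨f, hf⟩ := ProjSpace.polyToSection_surjective (n := n + 1) (R := k) 1 (secOf s)
  have hf0 : f.1 ≠ 0 := fun h0 => hs0 <| by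
    have : f = 0 := Subtype.ext h0
    subst this
    rw [← Groth.L18.GenLoc.homOfSection_secOf s,
      ← Groth.L18.GenLoc.homOfSection_secOf (0 : Coh.structureModule P ⟶ L), ← hf]
    refine congrArg (Groth.L16.homOfSection L) ?_
    refine Subtype.ext (funext fun x => Subtype.ext ?_)
    exact Localization.mk_zero _
  obtain ⟨j₀, hj₀⟩ := Groth.L22.Hyper.exists_coeff_ne_zero f.2 hf0
  let Z := PicF2.zeroScheme L s
  obtain ⟨e, he⟩ := Groth.L18.ClosedSub.exists_iso Z.subschemeι
    (Finset.univ.image (MvPolynomial.X : Fin (n + 2) → MvPolynomial (Fin (n + 2)) k))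
    (fun g hg => by obtain ⟨j, -, rfl⟩ := Finset.mem_image.1 hg; exact ProjSpace.X_mem (n + 1) k j)
    ((ProjSpace.irrelevant_le_span (n + 1) k).trans (le_of_eq (by simp)))
    (Groth.L22.Hyper.substGr f.1 j₀) (Groth.L22.Hyper.substGr_surjective f.1 j₀) (Groth.L22.Hyper.map_irr f.1 j₀)
    (Groth.L22.Hyper.subst_eq_zero_iff hj₀ hf.symm)
  let j : CohB1.ProjSpace n k ⟶ P := Groth.L22.Hyper.hypMap f.1 j₀
  have hje : j = e.inv ≫ Z.subschemeι := by rw [← he]; simp [j, Groth.L22.Hyper.hypMap]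
  haveI hjc : IsClosedImmersion j := by rw [hje]; infer_instance
  have hjker : j.ker = Z := by
    rw [hje, Scheme.Hom.ker_comp_of_isIso, Scheme.IdealSheafData.ker_subschemeι]
  have hjs : j ≫ CohB1.ProjSpace.toSpec (n + 1) k = CohB1.ProjSpace.toSpec n k := by
    simp only [j, Groth.L22.Hyper.hypMap, CohB1.ProjSpace.toSpec]
    rw [← Category.assoc, Groth.L18.FinProj.map_toSpecZero, Category.assoc, ← Spec.map_comp, ← CommRingCat.ofHom_comp]
    congr 3
    refine RingHom.ext fun c => Subtype.ext ?_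
    exact (Groth.L22.Hyper.subst f.1 j₀).commutes c
  obtain ⟨p⟩ := Groth.L22.Hyper.nonempty_pullback_O1 (k := k) f.1 j₀
  refine ⟨j, hjc, hjs, ⟨p⟩, hjker, ?_⟩
  rw [← Groth.L22.ZeroScheme.support_zeroScheme hL s, show PicF2.zeroScheme L s = j.ker from hjker.symm,
    Scheme.Hom.support_ker, j.isClosedEmbedding.isClosed_range.closure_eq]

/-- A closed point lies on a linear subspace of each positive dimension. -/
theorem exists_subspace {m : ℕ} (hm : 1 ≤ m) : ∀ (n : ℕ), m ≤ n → ∀ (x : CohB1.ProjSpace n k), IsClosed ({x} : Set _) →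
    ∃ (i : CohB1.ProjSpace m k ⟶ CohB1.ProjSpace n k) (x' : CohB1.ProjSpace m k), IsClosedImmersion i ∧
      i ≫ CohB1.ProjSpace.toSpec n k = CohB1.ProjSpace.toSpec m k ∧
      Nonempty ((Scheme.Modules.pullback i).obj (O' n k 1) ≅ O' m k 1) ∧ i.base x' = x ∧
      IsClosed ({x'} : Set (CohB1.ProjSpace m k))
  | 0, h, _, _ => absurd h (by omega)
  | n + 1, h, x, hx => by
    rcases h.eq_or_lt with rfl | hlt
    · exact ⟨𝟙 _, x, inferInstance, Category.id_comp _, ⟨(Scheme.Modules.pullbackId _).app _⟩, rfl, hx⟩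
    letI : (CohB1.ProjSpace (n + 1) k).Over (Spec (CommRingCat.of k)) := ⟨CohB1.ProjSpace.toSpec (n + 1) k⟩
    obtain ⟨V, _, _, r, _, hV, hr⟩ := exists_eval k (n := n + 1) x hx
    obtain ⟨e⟩ := ProjSpace.nonempty_H0_twist_linearEquiv (n + 1) k 1
    haveI := (Groth.L03.PlanePoints.finrank_homogeneous (F := k) (n + 1) 1).1
    have h3 : Module.finrank k (Coh.HH (CohB1.ProjSpace (n + 1) k) (O' (n + 1) k 1) 0) = n + 2 := by
      refine e.finrank_eq.trans ?_
      rw [(Groth.L03.PlanePoints.finrank_homogeneous (F := k) (n + 1) 1).2, add_comm 1 (n + 1),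
        Nat.choose_succ_self_right]
    haveI : Module.Finite k (Coh.HH (CohB1.ProjSpace (n + 1) k) (O' (n + 1) k 1) 0) := Module.Finite.equiv e.symm
    have hker : LinearMap.ker r ≠ ⊥ := fun hbot => by
      have := LinearMap.finrank_le_finrank_of_injective (LinearMap.ker_eq_bot.1 hbot)
      omega
    obtain ⟨z, hz, hz0⟩ := (Submodule.ne_bot_iff _).1 hker
    have hs0 : Groth.L16.homOfSection (O' (n + 1) k 1) (Groth.L21.RR.e0 _ z) ≠ 0 := fun hh => hz0 <| by
      refine (Groth.L21.RR.e0 _).injective ?_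
      rw [← Groth.L18.GenLoc.secOf_homOfSection (Groth.L21.RR.e0 _ z), hh, map_zero]
      rfl
    obtain ⟨j, hjc, hjs, ⟨p⟩, -, hrange⟩ := exists_hyperplane _ hs0
    haveI := hjc
    obtain ⟨y, hy⟩ : x ∈ Set.range j.base := hrange ▸ hr z (LinearMap.mem_ker.1 hz)
    have hyc : IsClosed ({y} : Set (CohB1.ProjSpace n k)) := by
      have := hx.preimage j.continuous
      rwa [show j.base ⁻¹' {x} = {y} by
        ext w
        simp only [Set.mem_preimage, Set.mem_singleton_iff, ← hy]
        exact j.isClosedEmbedding.injective.eq_iff] at this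
    obtain ⟨i, x', hic, his, ⟨q⟩, hix, hx'⟩ := exists_subspace hm n (by omega) y hyc
    haveI := hic
    refine ⟨i ≫ j, x', inferInstance, by rw [Category.assoc, hjs, his], ⟨?_⟩, ?_, hx'⟩
    · exact ((Scheme.Modules.pullbackComp i j).app _).symm ≪≫ (Scheme.Modules.pullback i).mapIso p ≪≫ q
    · rw [Scheme.Hom.comp_base, TopCat.comp_app, hix, hy]

end Groth.L03.VBPn.Lines
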